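import Cfsg.Agent.Lib.J4M24Bound96.Sub.Data

/-! Generated row checks (`Sub`). -/

namespace Cfsg.Agent.Lib.J4M24Bound96.Sub

open Cfsg.Agent.Lib.CosetTable

set_option maxRecDepth 10000

theorem rows1_run1 : rangeAll (cert.rowOK tab 7100) 512 0 = true := by decide +kernel

theorem rows1_run2 : rangeAll (cert.rowOK tab 7100) 512 512 = true := by decide +kernel

theorem rows1_run3 : rangeAll (cert.rowOK tab 7100) 512 1024 = true := by decide +kernel

theorem rows1_run4 : rangeAll (cert.rowOK tab 7100) 512 1536 = true := by decide +kernel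

theorem rows1_run5 : rangeAll (cert.rowOK tab 7100) 512 2048 = true := by decide +kernel

theorem rows1_run6 : rangeAll (cert.rowOK tab 7100) 512 2560 = true := by decide +kernel

theorem rows1_run7 : rangeAll (cert.rowOK tab 7100) 384 3072 = true := by decide +kernel

theorem rows1 (h : Below (cert.rowOK tab 7100) 0) : Below (cert.rowOK tab 7100) 3456 :=
  (((((((h).step (b := 512) rows1_run1 rfl).step (b := 1024) rows1_run2 rfl).step (b := 1536) rows1_run3 rfl).step (b := 2048) rows1_run4 rfl).step (b := 2560) rows1_run5 rfl).step (b := 3072) rows1_run6 rfl).step (b := 3456) rows1_run7 rfl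

end Cfsg.Agent.Lib.J4M24Bound96.Sub
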