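import Cfsg.Agent.Lib.J4M24Bound96.Sub.Steps1
import Cfsg.Agent.Lib.J4M24Bound96.Sub.Rows1

/-! Generated summary (`Sub`). -/

namespace Cfsg.Agent.Lib.J4M24Bound96.Sub

open Cfsg.Agent.Lib.CosetTable

set_option maxRecDepth 10000

theorem steps : cert.Upto 7100 := part1 (ICert.Upto.zero _)

theorem rules_ok : cert.rulesOK cert.cyc cert.C.rules = true := by decide +kernel

theorem words_ok : cert.wordsOK = true := by decide +kernel

theorem cover : ICert.Cover cert tab 7100 where
  same := rfl
  pos := by decide +kernel
  rules := rules_ok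
  steps := steps
  rows := rows1 (Below.zero _)

end Cfsg.Agent.Lib.J4M24Bound96.Sub
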